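import Cfsg.Agent.SignalizersComponents.NoFixedGen
import Cfsg.Agent.OddOrderLocal.HallPi
import Cfsg.Agent.H376.Six.Top

/-!
# All primes of the radical are top primes (helper510, block 6)

`G` finite, `K ⊴ G` solvable, `T / K ⊴ G / K` simple of order divisible by the non-Fermat primes `a`, `b`, not dividing
`|K|`; for no prime divisor `t` of `|K|` both `t a` and `t b` are element orders. Then `K` has an elementary abelian
`t`-quotient (characteristic) for all prime divisors `t` of `|K|`.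
-/

set_option autoImplicit false

namespace Cfsg.Agent.H510.TopPrime

open Subgroup Cfsg.Agent.SignalizersComponents Cfsg.Agent.OddOrderLocal
open scoped commutatorElement

universe u

/-- a minimal normal subgroup -/
theorem exists_min {G : Type u} [Group G] [Finite G] (K : Subgroup G) [K.Normal] (hK : Group.IsSolvable ↥K)
    (h1 : K ≠ ⊥) : ∃ (V : Subgroup G) (_ : V.Normal) (p : ℕ), p.Prime ∧ V ≤ K ∧ V ≠ ⊥ ∧ (∀ x ∈ V, x ^ p = 1) ∧
      ∀ x ∈ V, ∀ y ∈ V, x * y * x⁻¹ * y⁻¹ = 1 := by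
  have hfin : (Set.Finite {B : Subgroup G | B.Normal ∧ B ≤ K ∧ B ≠ ⊥}) := Set.toFinite _
  obtain ⟨V, hV⟩ := hfin.exists_minimal ⟨K, inferInstance, le_rfl, h1⟩
  obtain ⟨hVn, hVK, hV1⟩ := hV.prop
  have hVs : Group.IsSolvable ↥V := Group.isSolvable_of_isSolvable_injective (inclusion_injective hVK)
  obtain ⟨K₁, hn, p, hp, hlt, hpow, hcomm⟩ := Cfsg.Agent.H376.Six.exists_top V hVs hV1
  have h2 : K₁ = ⊥ := by
    by_contra h3
    exact absurd (hV.le_of_le ⟨hn, hlt.le.trans hVK, h3⟩ hlt.le) (not_le_of_gt hlt)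
  subst h2
  exact ⟨V, hVn, p, hp, hVK, hV1, fun x hx => mem_bot.1 (hpow x hx), fun x hx y hy => mem_bot.1 (hcomm x hx y hy)⟩

/-- the fixed point argument -/
theorem centralizes {G : Type u} [Group G] [Finite G] {V Q : Subgroup G} [V.Normal] {t c : ℕ} (ht : t.Prime)
    (hc : c.Prime) (hF : ∀ m : ℕ, m ≠ 0 → c ≠ 2 ^ m + 1) (htc : t ≠ c) (hV : IsPGroup t V)
    (hQs : Group.IsSolvable Q) (hQt : ¬ t ∣ Nat.card Q) (hQc : ¬ c ∣ Nat.card Q) {y : G} (hy : y ^ c = 1)
    (hyQ : y ∈ normalizer (Q : Set G)) (hfree : V ⊓ centralizer {y} = ⊥)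
    (hfaith : Q ⊓ centralizer (V : Set G) = ⊥) : y ∈ centralizer (Q : Set G) := by
  have h1 := NoFixedGen.noFixed_of_not_fermat.{u} hc hF ({t}ᶜ) G V Q y t ht (by simp) htc hV hQs
    (fun q hq hd => by
      rw [Set.mem_compl_iff, Set.mem_singleton_iff]
      rintro rfl
      exact hQt hd) hQc hy (by rw [normalizer_eq_top]; exact mem_top _) hyQ (by rw [normalizer_eq_top]; exact le_top)
    hfree
  have h2 : ⁅Q, zpowers y⁆ ≤ Q := by
    rw [commutator_le]
    intro q hq z hz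
    have hzN : z ∈ normalizer (Q : Set G) := (zpowers_le.2 hyQ) hz
    have h3 : z * q⁻¹ * z⁻¹ ∈ Q := (mem_normalizer_iff.1 hzN _).1 (Q.inv_mem hq)
    have h4 : ⁅q, z⁆ = q * (z * q⁻¹ * z⁻¹) := by rw [commutatorElement_def]; group
    rw [h4]
    exact Q.mul_mem hq h3
  have h3 : ⁅Q, zpowers y⁆ ≤ ⊥ := hfaith ▸ le_inf h2 h1
  rw [mem_centralizer_iff]
  intro q hq
  have h4 := h3 (commutator_mem_commutator hq (mem_zpowers y))
  rw [mem_bot, commutatorElement_def] at h4
  calc q * y = (q * y * q⁻¹ * y⁻¹) * (y * q) := by group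
    _ = y * q := by rw [h4, one_mul]

/-- the product of commuting elements of different prime orders -/
theorem order_mul {G : Type*} [Group G] {s c : ℕ} (hs : s.Prime) (hc : c.Prime) (hsc : s ≠ c) {x y : G}
    (hx : orderOf x = s) (hy : orderOf y = c) (h : x * y = y * x) : orderOf (x * y) = s * c := by
  have h1 : Commute x y := h
  rw [h1.orderOf_mul_eq_mul_orderOf_of_coprime (by rw [hx, hy]; exact (Nat.coprime_primes hs hc).2 hsc), hx, hy]

/-- an element of order `n` of the quotient gives an element of order `n` of the group -/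
theorem exists_orderOf_lift {G : Type*} [Group G] [Finite G] (N : Subgroup G) [N.Normal] {n : ℕ} (hn : n ≠ 0)
    (h : ∃ g : G ⧸ N, orderOf g = n) : ∃ g : G, orderOf g = n := by
  obtain ⟨g, hg⟩ := h
  obtain ⟨x, rfl⟩ := QuotientGroup.mk'_surjective N g
  have h1 : n ∣ orderOf x := by
    rw [← hg]
    exact orderOf_map_dvd _ x
  obtain ⟨m, hm⟩ := h1
  refine ⟨x ^ m, ?_⟩
  have hm0 : m ≠ 0 := by
    rintro rfl
    rw [mul_zero] at hm
    exact (orderOf_pos x).ne' hm
  rw [orderOf_pow_of_dvd hm0 (by rw [hm]; exact Dvd.intro_left n rfl), hm, Nat.mul_div_cancel _ (Nat.pos_of_ne_zero hm0)]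

/-- the conclusion -/
def Top {G : Type u} [Group G] (K : Subgroup G) (t : ℕ) : Prop :=
  ∃ (K₁ : Subgroup G) (_ : K₁.Normal), K₁ < K ∧ (∀ x ∈ K, x ^ t ∈ K₁) ∧ (∀ x ∈ K, ∀ y ∈ K, x * y * x⁻¹ * y⁻¹ ∈ K₁)

/-- the hypotheses -/
structure Hy {G : Type u} [Group G] (K T : Subgroup G) (a b : ℕ) : Prop where
  sol : Group.IsSolvable ↥K
  le : K ≤ T
  min : ∀ X : Subgroup G, X.Normal → K ≤ X → ¬ X ⊓ T ≤ K → T ≤ X
  da : a ∣ K.relIndex T
  db : b ∣ K.relIndex T
  na : ¬ a ∣ Nat.card ↥K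
  nb : ¬ b ∣ Nat.card ↥K
  ab : ∀ t : ℕ, t.Prime → t ∣ Nat.card ↥K → ¬ ((∃ g : G, orderOf g = t * a) ∧ ∃ g : G, orderOf g = t * b)

theorem Hy.symm {G : Type u} [Group G] {K T : Subgroup G} {a b : ℕ} (h : Hy K T a b) : Hy K T b a :=
  ⟨h.sol, h.le, h.min, h.db, h.da, h.nb, h.na, fun t ht hd h' => h.ab t ht hd ⟨h'.2, h'.1⟩⟩

theorem card_map_mk {G : Type u} [Group G] [Finite G] (N K : Subgroup G) [N.Normal] :
    Nat.card ↥(K.map (QuotientGroup.mk' N)) = N.relIndex K := by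
  rw [← relIndex_ker, QuotientGroup.ker_mk']

/-- the hypotheses for a quotient -/
theorem Hy.map {G : Type u} [Group G] [Finite G] {K T : Subgroup G} {a b : ℕ} (ha : a.Prime) (hb : b.Prime)
    (h : Hy K T a b) (N : Subgroup G) [N.Normal] (hNK : N ≤ K) :
    Hy (K.map (QuotientGroup.mk' N)) (T.map (QuotientGroup.mk' N)) a b := by
  have hsol := h.sol
  have hd : Nat.card ↥(K.map (QuotientGroup.mk' N)) ∣ Nat.card ↥K := card_map_dvd _ _
  have hrel : (K.map (QuotientGroup.mk' N)).relIndex (T.map (QuotientGroup.mk' N)) = K.relIndex T := by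
    rw [relIndex_map_map, QuotientGroup.ker_mk', sup_eq_left.2 hNK, sup_eq_left.2 (hNK.trans h.le)]
  refine ⟨Group.isSolvable_of_surjective ((QuotientGroup.mk' N).subgroupMap_surjective K), map_mono h.le, ?_,
    hrel ▸ h.da, hrel ▸ h.db, fun h' => h.na (h'.trans hd), fun h' => h.nb (h'.trans hd), ?_⟩
  · intro X hX hKX hXT
    have h1 : T ≤ X.comap (QuotientGroup.mk' N) := by
      apply h.min _ (hX.comap _) (map_le_iff_le_comap.1 hKX)
      intro h2
      apply hXT
      rintro x ⟨hx1, y, hy, rfl⟩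
      exact ⟨y, h2 ⟨hx1, hy⟩, rfl⟩
    exact map_le_iff_le_comap.2 h1
  · rintro t ht htd ⟨h1, h2⟩
    exact h.ab t ht (htd.trans hd) ⟨exists_orderOf_lift N (Nat.mul_ne_zero ht.ne_zero ha.ne_zero) h1,
      exists_orderOf_lift N (Nat.mul_ne_zero ht.ne_zero hb.ne_zero) h2⟩

/-- the conclusion lifts from a quotient -/
theorem Top.lift {G : Type u} [Group G] [Finite G] {K : Subgroup G} {t : ℕ} (N : Subgroup G) [N.Normal] (hNK : N ≤ K)
    (h : Top (K.map (QuotientGroup.mk' N)) t) : Top K t := by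
  obtain ⟨K₁, hn, hlt, hpow, hcomm⟩ := h
  refine ⟨K₁.comap (QuotientGroup.mk' N), hn.comap _, ?_, ?_, ?_⟩
  · refine lt_of_le_of_ne ?_ ?_
    · intro x hx
      obtain ⟨k, hk, hkx⟩ := hlt.le (mem_comap.1 hx)
      have h1 : k⁻¹ * x ∈ N := QuotientGroup.eq.1 hkx
      have := K.mul_mem hk (hNK h1)
      rwa [mul_inv_cancel_left] at this
    · rintro rfl
      exact absurd (map_comap_le _ _) (not_le_of_gt hlt)
  · intro x hx
    rw [mem_comap, map_pow]
    exact hpow _ (mem_map_of_mem _ hx)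
  · intro x hx y hy
    rw [mem_comap, map_mul, map_mul, map_mul, map_inv, map_inv]
    exact hcomm _ (mem_map_of_mem _ hx) _ (mem_map_of_mem _ hy)

/-- two elements of orders `a`, `b` and an element of prime order commuting with them -/
theorem false_of_commute {G : Type u} [Group G] [Finite G] {K T : Subgroup G} {a b : ℕ} (ha : a.Prime) (hb : b.Prime)
    (h : Hy K T a b) {Q : Subgroup G} (hQK : Q ≤ K) (hQ : Q ≠ ⊥) (hac : a ∣ Nat.card ↥(centralizer (Q : Set G)))
    (hbc : b ∣ Nat.card ↥(centralizer (Q : Set G))) : False := by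
  have hcQ : Nat.card ↥Q ≠ 1 := fun h1 => hQ (card_eq_one.1 h1)
  obtain ⟨s, hs, hsd⟩ := Nat.exists_prime_and_dvd hcQ
  have := Fact.mk hs
  have := Fact.mk ha
  have := Fact.mk hb
  have hsK : s ∣ Nat.card ↥K := hsd.trans (card_dvd_of_le hQK)
  obtain ⟨x, hx⟩ := exists_prime_orderOf_dvd_card' (G := ↥Q) s hsd
  obtain ⟨y, hy⟩ := exists_prime_orderOf_dvd_card' (G := ↥(centralizer (Q : Set G))) a hac
  obtain ⟨z, hz⟩ := exists_prime_orderOf_dvd_card' (G := ↥(centralizer (Q : Set G))) b hbc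
  rw [← orderOf_coe] at hx hy hz
  refine h.ab s hs hsK ⟨⟨x * y, ?_⟩, ⟨x * z, ?_⟩⟩
  · exact order_mul hs ha (fun h1 => h.na (h1 ▸ hsK)) hx hy (mem_centralizer_iff.1 y.2 _ x.2)
  · exact order_mul hs hb (fun h1 => h.nb (h1 ▸ hsK)) hx hz (mem_centralizer_iff.1 z.2 _ x.2)

/-- the main step: all elements of order `a` normalising the complement centralise it -/
theorem step {G : Type u} [Group G] [Finite G] {K T : Subgroup G} [hKn : K.Normal] [T.Normal] {a b : ℕ}
    (ha : a.Prime) (hb : b.Prime) (h : Hy K T a b) {Q : Subgroup G} (hQK : Q ≤ K) (hQ : Q ≠ ⊥)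
    (hVN : ∀ g : G, ∃ k ∈ K, ∃ n ∈ normalizer (Q : Set G), g = k * n)
    (hcen : ∀ y ∈ normalizer (Q : Set G), orderOf y = a → y ∈ centralizer (Q : Set G)) : False := by
  have := Fact.mk ha
  set N : Subgroup G := normalizer (Q : Set G) with hN
  set D : Subgroup G := centralizer (Q : Set G) with hD
  have hconj : ∀ n ∈ N, ∀ d ∈ D, n * d * n⁻¹ ∈ D := by
    intro n hn d hd
    rw [hD, mem_centralizer_iff]
    intro q hq
    have h1 : n⁻¹ * q * n ∈ Q := by
      have := (mem_normalizer_iff.1 (N.inv_mem hn) q).1 hq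
      rwa [inv_inv] at this
    have h2 := mem_centralizer_iff.1 hd _ h1
    calc q * (n * d * n⁻¹) = n * ((n⁻¹ * q * n) * d) * n⁻¹ := by group
      _ = n * (d * (n⁻¹ * q * n)) * n⁻¹ := by rw [h2]
      _ = n * d * n⁻¹ * q := by group
  -- `K ⊔ D` is normal
  have hX : (K ⊔ D).Normal := by
    constructor
    intro x hx g
    obtain ⟨k', hk', d, hd, rfl⟩ := mem_sup_of_normal_left.1 hx
    obtain ⟨k, hk, n, hn, rfl⟩ := hVN g
    have e : k * n * (k' * d) * (k * n)⁻¹ = k * (n * k' * n⁻¹) * (n * d * n⁻¹) * k⁻¹ := by group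
    rw [e]
    have hKX : K ≤ K ⊔ D := le_sup_left
    exact (K ⊔ D).mul_mem ((K ⊔ D).mul_mem (hKX (K.mul_mem hk (hKn.conj_mem _ hk' n)))
      ((le_sup_right : D ≤ K ⊔ D) (hconj n hn d hd))) (hKX (K.inv_mem hk))
  -- an element of order `a`
  have hT : K ⊔ (N ⊓ T) = T := by
    apply le_antisymm (sup_le h.le inf_le_right)
    intro t ht
    obtain ⟨k, hk, n, hn, rfl⟩ := hVN t
    refine Subgroup.mul_mem_sup hk ⟨hn, ?_⟩
    have := T.mul_mem (T.inv_mem (h.le hk)) ht
    rwa [inv_mul_cancel_left] at this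
  have h1 : a ∣ Nat.card ↥(N ⊓ T) := by
    have h2 := h.da
    rw [← hT, relIndex_sup_left] at h2
    exact h2.trans (relIndex_dvd_card _ _)
  obtain ⟨y, hy⟩ := exists_prime_orderOf_dvd_card' (G := ↥(N ⊓ T)) a h1
  rw [← orderOf_coe] at hy
  have hTX : T ≤ K ⊔ D := by
    apply h.min _ hX le_sup_left
    intro h2
    have h3 : (y : G) ∈ K := h2 ⟨(le_sup_right : D ≤ K ⊔ D) (hcen _ y.2.1 hy), y.2.2⟩
    apply h.na
    rw [← hy]
    exact HallPi.orderOf_dvd_card_of_mem h3
  have h2 : K.relIndex T ∣ Nat.card ↥D := by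
    have h3 := relIndex_mul_relIndex K T (K ⊔ D) h.le hTX
    rw [relIndex_sup_left] at h3
    exact (Dvd.intro _ h3).trans (relIndex_dvd_card _ _)
  exact false_of_commute ha hb h hQK hQ (h.da.trans h2) (h.db.trans h2)

/-- no element of order `t * a`: the elements of order `a` normalising `Q` centralise it -/
theorem cen_of {G : Type u} [Group G] [Finite G] {K : Subgroup G} {a t : ℕ} (ha : a.Prime)
    (hFa : ∀ m : ℕ, m ≠ 0 → a ≠ 2 ^ m + 1) (hna : ¬ a ∣ Nat.card ↥K) (ht : t.Prime) (htK : t ∣ Nat.card ↥K)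
    {V Q : Subgroup G} [V.Normal] (hVt : ∀ x ∈ V, x ^ t = 1) (hQK : Q ≤ K) (hQs : Group.IsSolvable ↥Q)
    (hQt : ¬ t ∣ Nat.card ↥Q) (hfaith : Q ⊓ centralizer (V : Set G) = ⊥) (hno : ¬ ∃ g : G, orderOf g = t * a) :
    ∀ y ∈ normalizer (Q : Set G), orderOf y = a → y ∈ centralizer (Q : Set G) := by
  have := Fact.mk ht
  have hta : t ≠ a := fun h1 => hna (h1 ▸ htK)
  have hV : IsPGroup t V := fun x => ⟨1, Subtype.ext (by
    rw [pow_one, coe_pow, coe_one]
    exact hVt _ x.2)⟩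
  intro y hyN hy
  refine centralizes ht ha hFa hta hV hQs hQt (fun h1 => hna (h1.trans (card_dvd_of_le hQK)))
    (by rw [← hy]; exact pow_orderOf_eq_one y) hyN ?_ hfaith
  rw [eq_bot_iff]
  rintro v ⟨hv, hvy⟩
  rw [mem_bot]
  by_contra hv1
  have hvo : orderOf v = t := orderOf_eq_prime (hVt v hv) hv1
  exact hno ⟨v * y, order_mul ht ha hta hvo hy (mem_centralizer_iff.1 hvy y rfl).symm⟩

theorem core {a b : ℕ} (ha : a.Prime) (hb : b.Prime) (hFa : ∀ m : ℕ, m ≠ 0 → a ≠ 2 ^ m + 1)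
    (hFb : ∀ m : ℕ, m ≠ 0 → b ≠ 2 ^ m + 1) {t : ℕ} (ht : t.Prime) (n : ℕ) :
    ∀ {G : Type u} [Group G] [Finite G] (K T : Subgroup G) [K.Normal] [T.Normal], Nat.card ↥K ≤ n → Hy K T a b →
      t ∣ Nat.card ↥K → Top K t := by
  have := Fact.mk ht
  induction n with
  | zero =>
    intro G _ _ K T _ _ hn
    exact absurd hn (by have := Nat.card_pos (α := ↥K); omega)
  | succ n ih =>
    intro G _ _ K T _ _ hn h htK
    have red : ∀ (N : Subgroup G) [N.Normal], N ≤ K → N ≠ ⊥ → t ∣ N.relIndex K → Top K t := by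
      intro N _ hNK hN1 hd
      apply Top.lift N hNK
      refine ih (K.map _) (T.map _) ?_ (h.map ha hb N hNK) (by rw [card_map_mk]; exact hd)
      rw [card_map_mk]
      have h1 := HallPi.card_mul_relIndex hNK
      have h2 : 2 ≤ Nat.card ↥N := by
        have := Nat.card_pos (α := ↥N)
        have h3 : Nat.card ↥N ≠ 1 := fun h3 => hN1 (card_eq_one.1 h3)
        omega
      have h3 := Nat.card_pos (α := ↥K)
      have h4 : 0 < N.relIndex K := Nat.pos_of_ne_zero (fun h5 => by rw [h5, mul_zero] at h1; omega)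
      nlinarith
    have hK1 : K ≠ ⊥ := by
      rintro rfl
      rw [card_bot] at htK
      exact ht.one_lt.ne' (Nat.dvd_one.1 htK)
    obtain ⟨V, hVn, p, hp, hVK, hV1, hVp, hVc⟩ := exists_min K h.sol hK1
    by_cases hd : t ∣ V.relIndex K
    · exact red V hVK hV1 hd
    have hpt : p = t := by
      have := Fact.mk hp
      have h1 : t ∣ Nat.card ↥V := by
        have h2 := htK
        rw [← HallPi.card_mul_relIndex hVK] at h2
        exact (ht.dvd_mul.1 h2).resolve_right hd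
      obtain ⟨x, hx⟩ := exists_prime_orderOf_dvd_card' (G := ↥V) t h1
      rw [← orderOf_coe] at hx
      have h3 := orderOf_dvd_of_pow_eq_one (hVp x x.2)
      rw [hx] at h3
      exact ((Nat.prime_dvd_prime_iff_eq ht hp).1 h3).symm
    subst hpt
    obtain ⟨Q, hQ⟩ := HallPi.exists_isPiHallOf h.sol ({p}ᶜ : Set ℕ)
    have hQt : ¬ p ∣ Nat.card ↥Q := fun h1 => hQ.2.1 p ht h1 rfl
    have hVN : ∀ g : G, ∃ k ∈ K, ∃ n ∈ normalizer (Q : Set G), g = k * n := by
      intro g
      obtain ⟨k, hk, n, hn, e⟩ := HallPi.frattini h.sol le_top (by rw [normalizer_eq_top]) hQ g (mem_top g)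
      exact ⟨k, hk, n, hn.2, e⟩
    have hVQ : K ≤ V ⊔ Q := by
      rw [← relIndex_eq_one]
      by_contra h1
      obtain ⟨q, hq, hqd⟩ := Nat.exists_prime_and_dvd h1
      by_cases hqp : q = p
      · subst hqp
        exact hd (hqd.trans (relIndex_dvd_of_le_left K le_sup_left))
      · exact hQ.2.2 q hq hqp (hqd.trans (relIndex_dvd_of_le_left K le_sup_right))
    by_cases hQ1 : Q = ⊥
    · rw [hQ1, sup_bot_eq] at hVQ
      refine ⟨⊥, inferInstance, bot_lt_iff_ne_bot.2 hK1, fun x hx => mem_bot.2 (hVp x (hVQ hx)),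
        fun x hx y hy => mem_bot.2 (hVc x (hVQ hx) y (hVQ hy))⟩
    · by_cases hC : Q ⊓ centralizer (V : Set G) = ⊥
      · exfalso
        have hQs : Group.IsSolvable ↥Q := by
          have := h.sol
          exact Group.isSolvable_of_isSolvable_injective (inclusion_injective hQ.1)
        by_cases hA : ∃ g : G, orderOf g = p * a
        · have hB : ¬ ∃ g : G, orderOf g = p * b := fun hB => h.ab p ht htK ⟨hA, hB⟩
          exact step hb ha h.symm hQ.1 hQ1 hVN (cen_of hb hFb h.nb ht htK hVp hQ.1 hQs hQt hC hB)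
        · exact step ha hb h hQ.1 hQ1 hVN (cen_of ha hFa h.na ht htK hVp hQ.1 hQs hQt hC hA)
      · have hn1 : (Q ⊓ centralizer (V : Set G)).Normal := by
          have hZ : (centralizer (V : Set G)).Normal := inferInstance
          have key : ∀ n ∈ normalizer (Q : Set G), ∀ x ∈ Q ⊓ centralizer (V : Set G),
              n * x * n⁻¹ ∈ Q ⊓ centralizer (V : Set G) := by
            rintro n hn x ⟨hx1, hx2⟩
            exact ⟨(mem_normalizer_iff.1 hn x).1 hx1, hZ.conj_mem x hx2 n⟩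
          constructor
          intro x hx g
          obtain ⟨k, hk, n, hn, rfl⟩ := hVN g
          obtain ⟨v, hv, q, hq, rfl⟩ := mem_sup_of_normal_left.1 (hVQ hk)
          have e : v * q * n * x * (v * q * n)⁻¹ = v * (q * (n * x * n⁻¹) * q⁻¹) * v⁻¹ := by group
          have h1 := key q (le_normalizer hq) _ (key n hn x hx)
          have h2 : v * (q * (n * x * n⁻¹) * q⁻¹) * v⁻¹ = q * (n * x * n⁻¹) * q⁻¹ := by
            rw [mem_centralizer_iff.1 h1.2 v hv, mul_inv_cancel_right]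
          rw [e, h2]
          exact h1
        refine red (Q ⊓ centralizer (V : Set G)) (inf_le_left.trans hQ.1) hC ?_
        have h1 : Q ⊓ centralizer (V : Set G) ≤ K := inf_le_left.trans hQ.1
        have h2 := htK
        rw [← HallPi.card_mul_relIndex h1] at h2
        exact (ht.dvd_mul.1 h2).resolve_left (fun h3 => hQt (h3.trans (card_dvd_of_le inf_le_left)))

end Cfsg.Agent.H510.TopPrime
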